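import Cfsg.Agent.Lib.Helper57.TSO.Defs
import Cfsg.Agent.Lib.Helper99.SpStab

set_option autoImplicit false

/-!
# TSO (S5980), package [BXP]

A symplectic involution is `Sp`-conjugate to a diagonal sign matrix `diag(ε, ε)`.
-/

universe u

namespace Cfsg.Agent.Lib.Helper39.TSO

open Matrix Module
open scoped MatrixGroups
open Cfsg.Agent.Lib.Helper57.TSO
open Cfsg.Agent.Lib.Helper99

section
variable {F : Type u} [Field F]

/-- the eigenspace of a matrix, as a submodule of the coordinate space -/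
def eigSub {ι : Type*} [Fintype ι] (X : Matrix ι ι F) (c : F) : Submodule F (ι → F) where
  carrier := {v | X *ᵥ v = c • v}
  add_mem' := by
    intro a b ha hb
    simp only [Set.mem_setOf_eq] at *
    rw [Matrix.mulVec_add, ha, hb, smul_add]
  zero_mem' := by simp
  smul_mem' := by
    intro t a ha
    simp only [Set.mem_setOf_eq] at *
    rw [Matrix.mulVec_smul, ha, smul_comm]

theorem mem_eigSub {ι : Type*} [Fintype ι] (X : Matrix ι ι F) (c : F) (v : ι → F) :
    v ∈ eigSub X c ↔ X *ᵥ v = c • v := Iff.rfl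

/-- a matrix whose columns form a symplectic frame of eigenvectors -/
theorem frame_to_spGL (d : ℕ) (X : Matrix (Fin d ⊕ Fin d) (Fin d ⊕ Fin d) F)
    (e f : Fin d → (Fin d ⊕ Fin d → F)) (ε : Fin d → F)
    (hef : ∀ i j, Cfsg.sympForm d F (e i) (f j) = if i = j then 1 else 0)
    (hfe : ∀ i j, Cfsg.sympForm d F (f i) (e j) = if i = j then -1 else 0)
    (hee : ∀ i j, Cfsg.sympForm d F (e i) (e j) = 0)
    (hff : ∀ i j, Cfsg.sympForm d F (f i) (f j) = 0)
    (hxe : ∀ i, X *ᵥ e i = ε i • e i) (hxf : ∀ i, X *ᵥ f i = ε i • f i) :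
    ∃ E : GL (Fin d ⊕ Fin d) F, E ∈ Cfsg.spGL d F ∧
      X * (E : Matrix (Fin d ⊕ Fin d) (Fin d ⊕ Fin d) F) =
        (E : Matrix (Fin d ⊕ Fin d) (Fin d ⊕ Fin d) F) * Dmat d ε := by
  classical
  obtain ⟨col, hcol⟩ : ∃ col : Fin d ⊕ Fin d → (Fin d ⊕ Fin d → F), col = Sum.elim f e :=
    ⟨_, rfl⟩
  obtain ⟨E₀, hE₀⟩ : ∃ E₀ : Matrix (Fin d ⊕ Fin d) (Fin d ⊕ Fin d) F,
      E₀ = Matrix.of (fun r c => col c r) := ⟨_, rfl⟩
  have hcolE : ∀ c, E₀ *ᵥ Pi.single c 1 = col c := by
    intro c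
    rw [Matrix.mulVec_single_one]
    ext r
    rw [hE₀]
    rfl
  have hgen : ∀ u v : Fin d ⊕ Fin d → F, Cfsg.sympForm d F (E₀ *ᵥ u) (E₀ *ᵥ v) =
      u ⬝ᵥ ((E₀ᵀ * Matrix.J (Fin d) F * E₀) *ᵥ v) := by
    intro u v
    unfold Cfsg.sympForm
    rw [← Matrix.vecMul_transpose, ← Matrix.dotProduct_mulVec, Matrix.mulVec_mulVec,
      Matrix.mulVec_mulVec, Matrix.mul_assoc]
  have hJ : E₀ᵀ * Matrix.J (Fin d) F * E₀ = Matrix.J (Fin d) F := by
    ext c c'
    have h1 : (E₀ᵀ * Matrix.J (Fin d) F * E₀) c c' = Cfsg.sympForm d F (col c) (col c') := by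
      rw [← hcolE c, ← hcolE c', hgen, Matrix.mulVec_single_one, single_one_dotProduct]
      rfl
    rw [h1, hcol]
    rcases c with i | i <;> rcases c' with j | j
    · simp [hff, Matrix.J]
    · simp only [Sum.elim_inl, Sum.elim_inr, hfe, Matrix.J, Matrix.fromBlocks_apply₁₂,
        Matrix.neg_apply, Matrix.one_apply]
      split_ifs <;> simp
    · simp [hef, Matrix.J, Matrix.one_apply]
    · simp [hee, Matrix.J]
  have hpresE : ∀ u v : Fin d ⊕ Fin d → F,
      Cfsg.sympForm d F (E₀ *ᵥ u) (E₀ *ᵥ v) = Cfsg.sympForm d F u v := by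
    intro u v
    rw [hgen, hJ]
    rfl
  have hdetE : E₀.det ≠ 0 := by
    intro h0
    have h1 := congrArg Matrix.det hJ
    rw [Matrix.det_mul, Matrix.det_mul, Matrix.det_transpose, h0, zero_mul, zero_mul] at h1
    have h2 := Matrix.J_det_mul_J_det (Fin d) F
    rw [← h1, zero_mul] at h2
    exact zero_ne_one h2
  obtain ⟨E, hE⟩ : ∃ E : GL (Fin d ⊕ Fin d) F,
      (E : Matrix (Fin d ⊕ Fin d) (Fin d ⊕ Fin d) F) = E₀ :=
    ((Matrix.isUnit_iff_isUnit_det _).2 (IsUnit.mk0 _ hdetE))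
  refine ⟨E, ?_, ?_⟩
  · show ∀ u v : Fin d ⊕ Fin d → F, Cfsg.sympForm d F
        ((E : Matrix (Fin d ⊕ Fin d) (Fin d ⊕ Fin d) F) *ᵥ u)
        ((E : Matrix (Fin d ⊕ Fin d) (Fin d ⊕ Fin d) F) *ᵥ v) = Cfsg.sympForm d F u v
    rw [hE]
    exact hpresE
  · rw [hE]
    have hxc : ∀ c, X *ᵥ col c = (Sum.elim ε ε c) • col c := by
      rw [hcol]
      rintro (j | j)
      · simp [hxf]
      · simp [hxe]
    ext r c
    calc (X * E₀) r c = (X *ᵥ col c) r := by
          rw [← hcolE c, Matrix.mulVec_mulVec, Matrix.mulVec_single_one]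
          rfl
      _ = Sum.elim ε ε c * col c r := by rw [hxc]; rfl
      _ = (E₀ * Dmat d ε) r c := by
          rw [Dmat, Matrix.mul_diagonal, hE₀, mul_comm]
          rfl

/-- a spanning symplectic frame has the right size -/
theorem frame_dim (d n : ℕ) (B : LinearMap.BilinForm F (Fin d ⊕ Fin d → F)) (hB : B.IsAlt)
    (e f : Fin n → (Fin d ⊕ Fin d → F))
    (hef : ∀ i j, B (e i) (f j) = if i = j then 1 else 0) (hee : ∀ i j, B (e i) (e j) = 0)
    (hff : ∀ i j, B (f i) (f j) = 0)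
    (hspan : ∀ v : Fin d ⊕ Fin d → F, ∃ a b : Fin n → F,
      v = ∑ i, a i • e i + ∑ i, b i • f i) : n = d := by
  have hli := alt_li B hB e f hef hee hff
  have h1 := hli.fintype_card_le_finrank
  have hs : Submodule.span F (Set.range (Sum.elim e f : Fin n ⊕ Fin n → _)) = ⊤ := by
    rw [eq_top_iff]
    intro v _
    obtain ⟨a, b, rfl⟩ := hspan v
    refine Submodule.add_mem _ (Submodule.sum_mem _ fun i _ => Submodule.smul_mem _ _
      (Submodule.subset_span ⟨Sum.inl i, rfl⟩)) (Submodule.sum_mem _ fun i _ =>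
      Submodule.smul_mem _ _ (Submodule.subset_span ⟨Sum.inr i, rfl⟩))
  have h2 := finrank_range_le_card (R := F) (Sum.elim e f : Fin n ⊕ Fin n → _)
  rw [Set.finrank, hs, finrank_top] at h2
  have h3 : finrank F (Fin d ⊕ Fin d → F) = d + d := by
    rw [Module.finrank_fintype_fun_eq_card, Fintype.card_sum, Fintype.card_fin]
  rw [h3] at h1 h2
  rw [Fintype.card_sum, Fintype.card_fin] at h1 h2
  omega

theorem frame_main (d n : ℕ) (X : Matrix (Fin d ⊕ Fin d) (Fin d ⊕ Fin d) F)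
    (B : LinearMap.BilinForm F (Fin d ⊕ Fin d → F)) (hB : B.IsAlt)
    (hBapp : ∀ u v, B u v = Cfsg.sympForm d F u v)
    (e f : Fin n → (Fin d ⊕ Fin d → F)) (ε : Fin n → F)
    (hef : ∀ i j, B (e i) (f j) = if i = j then 1 else 0) (hee : ∀ i j, B (e i) (e j) = 0)
    (hff : ∀ i j, B (f i) (f j) = 0)
    (hspan : ∀ v : Fin d ⊕ Fin d → F, ∃ a b : Fin n → F,
      v = ∑ i, a i • e i + ∑ i, b i • f i)
    (hxe : ∀ i, X *ᵥ e i = ε i • e i) (hxf : ∀ i, X *ᵥ f i = ε i • f i)
    (hε : ∀ i, ε i = 1 ∨ ε i = -1) :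
    ∃ (E : GL (Fin d ⊕ Fin d) F) (ε' : Fin d → F), E ∈ Cfsg.spGL d F ∧
      (∀ j, ε' j = 1 ∨ ε' j = -1) ∧
      X * (E : Matrix (Fin d ⊕ Fin d) (Fin d ⊕ Fin d) F) =
        (E : Matrix (Fin d ⊕ Fin d) (Fin d ⊕ Fin d) F) * Dmat d ε' := by
  have hnd : n = d := frame_dim d n B hB e f hef hee hff hspan
  subst hnd
  have hfe : ∀ i j, Cfsg.sympForm n F (f i) (e j) = if i = j then -1 else 0 := by
    intro i j
    rw [← hBapp, ← hB.neg_eq, hef]
    by_cases hij : i = j
    · subst hij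
      simp
    · rw [if_neg hij, if_neg (fun h => hij h.symm), neg_zero]
  obtain ⟨E, hE, hXE⟩ := frame_to_spGL n X e f ε (fun i j => by rw [← hBapp]; exact hef i j) hfe
    (fun i j => by rw [← hBapp]; exact hee i j) (fun i j => by rw [← hBapp]; exact hff i j)
    hxe hxf
  exact ⟨E, ε, hE, hε, hXE⟩

end

theorem pkgBXp : PkgBXp.{u} := by
  intro F _ _ h2 d x hx hx2
  classical
  obtain ⟨X, hX⟩ : ∃ X : Matrix (Fin d ⊕ Fin d) (Fin d ⊕ Fin d) F,
      X = (x : Matrix (Fin d ⊕ Fin d) (Fin d ⊕ Fin d) F) := ⟨_, rfl⟩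
  rw [← hX] at hx2 ⊢
  have hXX : ∀ v, X *ᵥ (X *ᵥ v) = v := by
    intro v
    rw [Matrix.mulVec_mulVec, ← pow_two, hx2, Matrix.one_mulVec]
  have hpres : ∀ u v : Fin d ⊕ Fin d → F,
      Cfsg.sympForm d F (X *ᵥ u) (X *ᵥ v) = Cfsg.sympForm d F u v := by
    rw [hX]
    exact hx
  obtain ⟨B, hBdef⟩ : ∃ B : LinearMap.BilinForm F (Fin d ⊕ Fin d → F), B = sympB d := ⟨_, rfl⟩
  have hBapp : ∀ u v, B u v = Cfsg.sympForm d F u v := fun u v => by rw [hBdef, sympB_apply]
  have hBalt : B.IsAlt := by rw [hBdef]; exact sympB_isAlt d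
  have hBnd : ∀ u, (∀ v, B u v = 0) → u = 0 := by
    intro u h
    rw [hBdef] at h
    exact sympB_nondeg d u h
  have hBX : ∀ u v, B (X *ᵥ u) (X *ᵥ v) = B u v := by
    intro u v
    rw [hBapp, hBapp]
    exact hpres u v
  -- the two eigenspaces are orthogonal
  have hperp : ∀ u ∈ eigSub X (1 : F), ∀ v ∈ eigSub X (-1 : F), B u v = 0 := by
    intro u hu v hv
    have h := hBX u v
    rw [(mem_eigSub X 1 u).1 hu, (mem_eigSub X (-1) v).1 hv, one_smul, neg_smul, one_smul,
      map_neg] at h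
    have h3 : (2 : F) * B u v = 0 := by linear_combination -h
    exact (mul_eq_zero.1 h3).resolve_left h2
  have hperp' : ∀ u ∈ eigSub X (-1 : F), ∀ v ∈ eigSub X (1 : F), B u v = 0 := by
    intro u hu v hv
    rw [← hBalt.neg_eq, hperp v hv u hu, neg_zero]
  have hdec : ∀ v : Fin d ⊕ Fin d → F, ∃ vp ∈ eigSub X (1 : F), ∃ vm ∈ eigSub X (-1 : F),
      v = vp + vm := by
    intro v
    refine ⟨(2 : F)⁻¹ • (v + X *ᵥ v), ?_, (2 : F)⁻¹ • (v - X *ᵥ v), ?_, ?_⟩
    · rw [mem_eigSub, Matrix.mulVec_smul, Matrix.mulVec_add, hXX, one_smul, add_comm]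
    · rw [mem_eigSub, Matrix.mulVec_smul, Matrix.mulVec_sub, hXX, neg_smul, one_smul,
        ← smul_neg, neg_sub]
    · rw [← smul_add]
      have h3 : v + X *ᵥ v + (v - X *ᵥ v) = (2 : F) • v := by
        rw [two_smul]
        abel
      rw [h3, smul_smul, inv_mul_cancel₀ h2, one_smul]
  have hNp : NondegOn B (eigSub X (1 : F)) := by
    intro u hu h
    apply hBnd
    intro v
    obtain ⟨vp, hvp, vm, hvm, rfl⟩ := hdec v
    rw [map_add, h vp hvp, hperp u hu vm hvm, add_zero]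
  have hNm : NondegOn B (eigSub X (-1 : F)) := by
    intro u hu h
    apply hBnd
    intro v
    obtain ⟨vp, hvp, vm, hvm, rfl⟩ := hdec v
    rw [map_add, h vm hvm, hperp' u hu vp hvp, add_zero]
  obtain ⟨kp, ep, fp, hMp, hefp, heep, hffp, hspanp⟩ :=
    alt_aux B hBalt (finrank F (eigSub X (1 : F))) (eigSub X (1 : F)) le_rfl hNp
  obtain ⟨km, em, fm, hMm, hefm, heem, hffm, hspanm⟩ :=
    alt_aux B hBalt (finrank F (eigSub X (-1 : F))) (eigSub X (-1 : F)) le_rfl hNm
  have hcn : ∀ (i : Fin kp) (j : Fin km), Fin.castAdd km i ≠ Fin.natAdd kp j := by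
    intro i j h
    have h3 := congrArg Fin.val h
    simp only [Fin.val_castAdd, Fin.val_natAdd] at h3
    omega
  apply frame_main d (kp + km) X B hBalt hBapp (Fin.append ep em) (Fin.append fp fm)
    (Fin.append (fun _ => (1 : F)) (fun _ => (-1 : F)))
  · intro i j
    refine Fin.addCases (fun i' => ?_) (fun i' => ?_) i <;>
      refine Fin.addCases (fun j' => ?_) (fun j' => ?_) j
    · rw [Fin.append_left, Fin.append_left, hefp]
      simp only [Fin.castAdd_inj]
    · rw [Fin.append_left, Fin.append_right, hperp _ (hMp i').1 _ (hMm j').2,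
        if_neg (hcn i' j')]
    · rw [Fin.append_right, Fin.append_left, hperp' _ (hMm i').1 _ (hMp j').2,
        if_neg (fun h => hcn j' i' h.symm)]
    · rw [Fin.append_right, Fin.append_right, hefm]
      simp only [Fin.natAdd_inj]
  · intro i j
    refine Fin.addCases (fun i' => ?_) (fun i' => ?_) i <;>
      refine Fin.addCases (fun j' => ?_) (fun j' => ?_) j
    · rw [Fin.append_left, Fin.append_left, heep]
    · rw [Fin.append_left, Fin.append_right, hperp _ (hMp i').1 _ (hMm j').1]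
    · rw [Fin.append_right, Fin.append_left, hperp' _ (hMm i').1 _ (hMp j').1]
    · rw [Fin.append_right, Fin.append_right, heem]
  · intro i j
    refine Fin.addCases (fun i' => ?_) (fun i' => ?_) i <;>
      refine Fin.addCases (fun j' => ?_) (fun j' => ?_) j
    · rw [Fin.append_left, Fin.append_left, hffp]
    · rw [Fin.append_left, Fin.append_right, hperp _ (hMp i').2 _ (hMm j').2]
    · rw [Fin.append_right, Fin.append_left, hperp' _ (hMm i').2 _ (hMp j').2]
    · rw [Fin.append_right, Fin.append_right, hffm]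
  · intro v
    obtain ⟨vp, hvp, vm, hvm, rfl⟩ := hdec v
    obtain ⟨ap, bp, rfl⟩ := hspanp vp hvp
    obtain ⟨am, bm, rfl⟩ := hspanm vm hvm
    refine ⟨Fin.append ap am, Fin.append bp bm, ?_⟩
    rw [Fin.sum_univ_add, Fin.sum_univ_add]
    simp only [Fin.append_left, Fin.append_right]
    abel
  · intro i
    refine Fin.addCases (fun i' => ?_) (fun i' => ?_) i
    · rw [Fin.append_left, Fin.append_left]
      exact (mem_eigSub X 1 _).1 (hMp i').1
    · rw [Fin.append_right, Fin.append_right]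
      exact (mem_eigSub X (-1) _).1 (hMm i').1
  · intro i
    refine Fin.addCases (fun i' => ?_) (fun i' => ?_) i
    · rw [Fin.append_left, Fin.append_left]
      exact (mem_eigSub X 1 _).1 (hMp i').2
    · rw [Fin.append_right, Fin.append_right]
      exact (mem_eigSub X (-1) _).1 (hMm i').2
  · intro i
    refine Fin.addCases (fun i' => ?_) (fun i' => ?_) i
    · left
      rw [Fin.append_left]
    · right
      rw [Fin.append_right]

end Cfsg.Agent.Lib.Helper39.TSO
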